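import Mathlib
import Cfsg.Agent.Lib.Helper10.LW7.Defs

set_option autoImplicit false

/-! Project LW8 (S0748), piece H1 (helper10). -/

namespace Cfsg.Agent.Lib.Helper10.LW8

open MulAction Equiv
open scoped Pointwise
open Cfsg.Agent.Lib.Helper10.LW7

variable {α : Type*} [Fintype α] [DecidableEq α]

omit [Fintype α] in
/-- homogeneity: any `j`-set is mapped onto any other by an element of `G` -/
theorem exists_map_of_homog (G : Subgroup (Perm α)) (j : ℕ)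
    (hh : IsPretransitive G (Set.powersetCard α j)) (s t : Finset α) (hs : s.card = j)
    (ht : t.card = j) : ∃ g ∈ G, ∀ x, x ∈ s ↔ g x ∈ t := by
  obtain ⟨g, hg⟩ := hh.exists_smul_eq (⟨s, Set.powersetCard.mem_iff.mpr hs⟩ : Set.powersetCard α j)
    ⟨t, Set.powersetCard.mem_iff.mpr ht⟩
  have hg' : g • (s : Finset α) = t := by
    have := congrArg Subtype.val hg
    exact (Set.powersetCard.coe_smul (g := g)
      (s := (⟨s, Set.powersetCard.mem_iff.mpr hs⟩ : Set.powersetCard α j))).symm.trans this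
  refine ⟨g.1, g.2, fun x => ?_⟩
  rw [← hg']
  exact (Finset.smul_mem_smul_finset_iff (a := g) (s := s) (b := x)).symm

/-- H1 : with homogeneity, every `(j+1)`-set is good -/
theorem all_good (G : Subgroup (Perm α)) (j : ℕ)
    (hh : IsPretransitive G (Set.powersetCard α (j + 1))) (hgood : Good G j) :
    ∀ Δ : Finset α, Δ.card = j + 1 → alternatingGroup ↥Δ ≤ induced G Δ := by
  obtain ⟨Δ₀, hΔ₀, hA⟩ := hgood
  intro Δ hΔ σ hσ
  obtain ⟨g, hgG, hg⟩ := exists_map_of_homog G (j + 1) hh Δ₀ Δ hΔ₀ hΔ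
  let e : ↥Δ₀ ≃ ↥Δ := (g : α ≃ α).subtypeEquiv (p := fun a => a ∈ Δ₀) (q := fun b => b ∈ Δ) hg
  have he : ∀ x : ↥Δ₀, ((e x : ↥Δ) : α) = g (x : α) := fun x => rfl
  let σ₀ : Perm ↥Δ₀ := e.symm.permCongr σ
  have hσ₀ : σ₀ ∈ alternatingGroup ↥Δ₀ := by
    rw [Equiv.Perm.mem_alternatingGroup, Equiv.Perm.sign_permCongr]
    exact Equiv.Perm.mem_alternatingGroup.mp hσ
  obtain ⟨g₀, hg₀G, hg₀⟩ := hA hσ₀
  refine ⟨g * g₀ * g⁻¹, G.mul_mem (G.mul_mem hgG hg₀G) (G.inv_mem hgG), fun y => ?_⟩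
  have h1 : ((e.symm y : ↥Δ₀) : α) = g⁻¹ (y : α) := by
    rw [Perm.eq_inv_iff_eq, ← he, Equiv.apply_symm_apply]
  have h2 := hg₀ (e.symm y)
  have h3 : σ₀ (e.symm y) = e.symm (σ y) := by
    simp [σ₀, Equiv.permCongr_apply]
  rw [Perm.mul_apply, Perm.mul_apply, ← h1, h2, h3, ← he, Equiv.apply_symm_apply]

end Cfsg.Agent.Lib.Helper10.LW8
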