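import Mathlib
import Cfsg.Agent.Lib.Helper10.LW7.Defs
import Cfsg.Agent.Lib.Helper10.LWP2

set_option autoImplicit false

/-! Project LW8 (S0748), pieces H2 and H5c (helper10). -/

namespace Cfsg.Agent.Lib.Helper10.LW8

open MulAction Equiv
open Cfsg.Agent.Lib.Helper10.LW7

variable {α : Type*} [Fintype α] [DecidableEq α]

/-- H2 : a group containing the alternating group is transitive -/
theorem trans_of_alt_le {β : Type*} [Fintype β] [DecidableEq β] (hβ : 3 ≤ Fintype.card β)
    (L : Subgroup (Perm β)) (hL : alternatingGroup β ≤ L) (x y : β) : ∃ n ∈ L, n x = y := by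
  by_cases hxy : x = y
  · exact ⟨1, L.one_mem, by simp [hxy]⟩
  · obtain ⟨z, hz⟩ : ∃ z, z ∉ ({x, y} : Finset β) := by
      by_contra hcon
      push Not at hcon
      have : (Finset.univ : Finset β) ⊆ {x, y} := fun z _ => hcon z
      have := Finset.card_le_card this
      rw [Finset.card_univ, Finset.card_pair hxy] at this
      omega
    rw [Finset.mem_insert, Finset.mem_singleton, not_or] at hz
    refine ⟨swap x z * swap x y, hL ?_, ?_⟩
    · rw [Equiv.Perm.mem_alternatingGroup, map_mul, Equiv.Perm.sign_swap (Ne.symm hz.1),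
        Equiv.Perm.sign_swap hxy]
      rfl
    · rw [Perm.mul_apply, swap_apply_left, swap_apply_of_ne_of_ne (Ne.symm hxy) (Ne.symm hz.2)]

/-- H5c : `462 ∤ 7920` -/
theorem not_homog_eleven (G : Subgroup (Perm α)) (hn : Fintype.card α = 11)
    (hG : Nat.card G = 7920) (hh : IsPretransitive G (Set.powersetCard α 5)) : False := by
  obtain ⟨b, hb⟩ := Cfsg.Agent.Lib.Helper10.LWP2.card_eq_choose_mul G 5 (by omega) hh
  rw [hn, hG] at hb
  have h462 : Nat.choose 11 5 = 462 := by decide
  rw [h462] at hb
  omega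

end Cfsg.Agent.Lib.Helper10.LW8
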