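import Mathlib
import Cfsg.Agent.Lib.Helper10.LW7.Defs
import Cfsg.Agent.Lib.Helper10.LW8.H1

set_option autoImplicit false

/-! Project LW8 (S0748), piece H5a (helper10). -/

namespace Cfsg.Agent.Lib.Helper10.LW8

open MulAction Equiv
open Cfsg.Agent.Lib.Helper10.LW7

variable {α : Type*} [Fintype α] [DecidableEq α]

/-- H5a : homogeneous + full symmetric group on one set ⇒ transitive -/
theorem trans_of_top (G : Subgroup (Perm α)) (k : ℕ)
    (hh : IsPretransitive G (Set.powersetCard α k)) (Δ : Finset α) (hΔ : Δ.card = k)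
    (htop : induced G Δ = ⊤) : IsMultiplyPretransitive G α k := by
  refine ⟨fun x y => ?_⟩
  have hsx : (Finset.univ.map x).card = k := by simp
  have hsy : (Finset.univ.map y).card = k := by simp
  obtain ⟨g₁, hg₁G, hg₁⟩ := exists_map_of_homog G k hh _ Δ hsx hΔ
  obtain ⟨g₂, hg₂G, hg₂⟩ := exists_map_of_homog G k hh _ Δ hsy hΔ
  have hx : ∀ i, g₁ (x i) ∈ Δ := fun i => (hg₁ (x i)).mp (by simp)
  have hy : ∀ i, g₂ (y i) ∈ Δ := fun i => (hg₂ (y i)).mp (by simp)
  let u : Fin k → ↥Δ := fun i => ⟨g₁ (x i), hx i⟩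
  let v : Fin k → ↥Δ := fun i => ⟨g₂ (y i), hy i⟩
  have hu : Function.Injective u := by
    intro i i' h
    have := congrArg Subtype.val h
    exact x.injective (g₁.injective this)
  have hv : Function.Injective v := by
    intro i i' h
    have := congrArg Subtype.val h
    exact y.injective (g₂.injective this)
  have hcard : Fintype.card (Fin k) = Fintype.card ↥Δ := by
    rw [Fintype.card_fin, Fintype.card_coe, hΔ]
  have hub : Function.Bijective u := (Fintype.bijective_iff_injective_and_card u).mpr ⟨hu, hcard⟩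
  have hvb : Function.Bijective v := (Fintype.bijective_iff_injective_and_card v).mpr ⟨hv, hcard⟩
  let eu : Fin k ≃ ↥Δ := Equiv.ofBijective u hub
  let ev : Fin k ≃ ↥Δ := Equiv.ofBijective v hvb
  let σ : Perm ↥Δ := eu.symm.trans ev
  have hσ : ∀ i, σ (u i) = v i := by
    intro i
    show ev (eu.symm (eu i)) = ev i
    rw [Equiv.symm_apply_apply]
  have hmem : σ ∈ induced G Δ := by rw [htop]; exact Subgroup.mem_top _
  obtain ⟨g₀, hg₀G, hg₀⟩ := hmem
  refine ⟨⟨g₂⁻¹ * g₀ * g₁, G.mul_mem (G.mul_mem (G.inv_mem hg₂G) hg₀G) hg₁G⟩, ?_⟩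
  ext i
  show (g₂⁻¹ * g₀ * g₁) (x i) = y i
  rw [Perm.mul_apply, Perm.mul_apply, Perm.inv_eq_iff_eq]
  have := hg₀ (u i)
  rw [hσ i] at this
  exact this

end Cfsg.Agent.Lib.Helper10.LW8
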