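import Mathlib
import Cfsg.Agent.Lib.Helper10.LW7.Defs
import Cfsg.Agent.S0746
import Cfsg.Agent.S0747
import Cfsg.Agent.Lib.Helper10.LW8.H1
import Cfsg.Agent.Lib.Helper10.LW8.H2c
import Cfsg.Agent.Lib.Helper10.LW8.H5a
import Cfsg.Agent.Lib.Helper19.LW8H3
import Cfsg.Agent.Lib.Helper19.LW8H4
import Cfsg.Agent.Lib.Helper19.LW8H5b

set_option autoImplicit false

/-! Project LW8 (S0748): assembly (helper10); Hall's theorem S4221 enters as a hypothesis. -/

namespace Cfsg.Agent.Lib.Helper10.LW8

open MulAction Equiv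
open Cfsg.Agent.Lib.Helper10.LW7

universe u
variable {α : Type u} [Fintype α] [DecidableEq α]

/-! ## assembly -/

theorem base_case
    (hHall : ∀ {α : Type u} [Fintype α] [DecidableEq α] (G : Subgroup (Equiv.Perm α)),
      MulAction.IsMultiplyPretransitive G α 4 → ∀ x : Fin 4 ↪ α,
      Odd (Nat.card (MulAction.stabilizer G x)) →
      ((Fintype.card α = 4 ∨ Fintype.card α = 5) ∧ G = ⊤) ∨
      ((Fintype.card α = 6 ∨ Fintype.card α = 7) ∧ G = alternatingGroup α) ∨
      (Fintype.card α = 11 ∧ Nat.card G = 7920))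
    (G : Subgroup (Perm α)) (hkn : 10 ≤ Fintype.card α)
    (hh : IsPretransitive G (Set.powersetCard α 5)) (h4 : IsMultiplyPretransitive G α 4)
    (hgood : Good G 4) : IsMultiplyPretransitive G α 5 := by
  have hge := all_good G 4 hh hgood
  by_cases hne : ∀ Δ : Finset α, Δ.card = 5 → induced G Δ ≠ ⊤
  · exfalso
    obtain ⟨x⟩ : Nonempty (Fin 4 ↪ α) :=
      Function.Embedding.nonempty_of_card_le (by simp only [Fintype.card_fin]; omega)
    rcases hHall G h4 x (Cfsg.Agent.Lib.Helper19.LW8H5b.odd_stab G hne hge x) with h | h | ⟨h11, hG⟩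
    · omega
    · omega
    · exact not_homog_eleven G h11 hG hh
  · push Not at hne
    obtain ⟨Δ, hΔ, htop⟩ := hne
    exact trans_of_top G 5 hh Δ hΔ htop

theorem main8
    (hHall : ∀ {α : Type u} [Fintype α] [DecidableEq α] (G : Subgroup (Equiv.Perm α)),
      MulAction.IsMultiplyPretransitive G α 4 → ∀ x : Fin 4 ↪ α,
      Odd (Nat.card (MulAction.stabilizer G x)) →
      ((Fintype.card α = 4 ∨ Fintype.card α = 5) ∧ G = ⊤) ∨
      ((Fintype.card α = 6 ∨ Fintype.card α = 7) ∧ G = alternatingGroup α) ∨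
      (Fintype.card α = 11 ∧ Nat.card G = 7920)) :
    ∀ (k : ℕ), 5 ≤ k → ∀ {α : Type u} [Fintype α] [DecidableEq α]
    (G : Subgroup (Perm α)), 2 * k ≤ Fintype.card α →
    IsPretransitive G (Set.powersetCard α k) → IsMultiplyPretransitive G α k := by
  intro k hk
  induction k, hk using Nat.le_induction with
  | base =>
    intro α _ _ G hkn hh
    have h4 : IsMultiplyPretransitive G α 4 := Cfsg.Agent.S0746.result G (by omega) hkn hh
    exact base_case hHall G (by omega) hh h4 (Cfsg.Agent.Lib.Helper10.LW7.main _ G (le_refl 4) rfl (by omega) h4)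
  | succ k hk ih =>
    intro α _ _ G hkn hh
    have hk' : IsMultiplyPretransitive G α k := Cfsg.Agent.S0746.result G (by omega) hkn hh
    have hgood : Good G k := Cfsg.Agent.Lib.Helper10.LW7.main _ G (by omega) rfl (by omega) hk'
    have hge := all_good G k hh hgood
    have htr : ∀ Δ : Finset α, Δ.card = k + 1 → ∀ x y : ↥Δ, ∃ n ∈ induced G Δ, n x = y :=
      fun Δ hΔ x y => trans_of_alt_le (by rw [Fintype.card_coe, hΔ]; omega) _ (hge Δ hΔ) x y
    obtain ⟨a⟩ : Nonempty α := Fintype.card_pos_iff.mp (by omega)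
    have hhom := Cfsg.Agent.Lib.Helper19.LW8H3.stab_homog G k hh htr a
    have hT : IsPretransitive G α := by
      have h1 : IsMultiplyPretransitive G α 1 :=
        MulAction.isMultiplyPretransitive_of_le (n := k) (by omega)
          (by rw [Nat.card_eq_fintype_card]; omega)
      exact MulAction.is_one_pretransitive_iff.mp h1
    apply Cfsg.Agent.Lib.Helper19.LW8H4.trans_succ G k hT a
    apply ih
    · rw [Fintype.card_coe, Finset.card_erase_of_mem (Finset.mem_univ a), Finset.card_univ]
      omega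
    · exact hhom

end Cfsg.Agent.Lib.Helper10.LW8
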